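import Groth.Agent.L05.RatPow.Spread
import Groth.Agent.L05.ResNorm.R1
import Groth.Agent.L05.CohFlat.Main
import Groth.Agent.L05.PtSeq.NormNagata
import Groth.Agent.L05.PtSeq.Trans
import Groth.Agent.L05.Models.ExtendMap
import Groth.Agent.L01.NagataFiniteType
import Groth.Agent.L01.NagataAdjoin
import Groth.Agent.L01.N2Basic
import Groth.Agent.L22.BM.NormIso
import Groth.Agent.L06.NormalAscent
import Groth.Agent.L01.NagataComplete

/-!
# Normal models with rational singularities over a DVR: basic tools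
-/

set_option autoImplicit false
set_option linter.style.haveILetI false
set_option maxHeartbeats 1000000
set_option backward.isDefEq.respectTransparency false
set_option backward.isDefEq.respectTransparency.types false

universe u

open CategoryTheory CategoryTheory.Limits AlgebraicGeometry TopologicalSpace Opposite
open Groth.L05.MinDesing (IsBir)
open Groth.L14.Quot (smulMod smulMod_app)
open Groth.L16.CohLinear (hmap delta exact_hmap_delta exact_delta_hmap)

noncomputable section

namespace Groth.L05.Adm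

/-- A discrete valuation ring of characteristic zero is Nagata. -/
theorem isNagata_dvr (R : Type u) [CommRing R] [IsDomain R] [IsDiscreteValuationRing R]
    [CharZero (FractionRing R)] : CAlg.IsNagata R := by
  refine ⟨inferInstance, fun p _ => ?_⟩
  by_cases hp : p = ⊥
  · subst hp
    let e : (R ⧸ (⊥ : Ideal R)) ≃+* R := RingEquiv.quotientBot _
    haveI : IsDomain (R ⧸ (⊥ : Ideal R)) := e.toMulEquiv.isDomain R
    haveI : IsIntegrallyClosed (R ⧸ (⊥ : Ideal R)) := IsIntegrallyClosed.of_equiv e.symm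
    haveI : CharZero R := charZero_of_inj_zero fun n hn => by
      simpa using congrArg (algebraMap R (FractionRing R)) hn
    haveI : CharZero (R ⧸ (⊥ : Ideal R)) :=
      charZero_of_injective_ringHom (f := e.symm.toRingHom) e.symm.injective
    exact Groth.L01.N2.isN2_of_isN1_of_charZero _ (Groth.L01.N2.isN1_of_isIntegrallyClosed _)
  · haveI : p.IsMaximal := IsPrime.to_maximal_ideal hp
    exact Groth.L01.NagataComplete.isN2_field _
      ((Ideal.Quotient.maximal_ideal_iff_isField_quotient _).mp inferInstance)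

variable {R : Type u} [CommRing R] [IsDomain R] [IsDiscreteValuationRing R] [CharZero (FractionRing R)]

theorem isNagata_opens {X : Scheme.{u}} (p : X ⟶ Spec (CommRingCat.of R)) [LocallyOfFiniteType p]
    (U : X.affineOpens) : CAlg.IsNagata Γ(X, U.1) :=
  Groth.L05.PtSeq.isNagata_affineOpens_of_lft p
    (Groth.L05.RatPow.isNagata_opens_spec (isNagata_dvr R)) U

theorem isNagata_stalk {X : Scheme.{u}} (p : X ⟶ Spec (CommRingCat.of R)) [LocallyOfFiniteType p] (x : X) :
    CAlg.IsNagata (X.presheaf.stalk x) := by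
  obtain ⟨V, hV, hxV, -⟩ := exists_isAffineOpen_mem_and_subset (x := x) (U := (⊤ : X.Opens)) trivial
  letI := TopCat.Presheaf.algebra_section_stalk X.presheaf ⟨x, hxV⟩
  haveI := hV.isLocalization_stalk ⟨x, hxV⟩
  exact Groth.L01.NagataAdjoin.isNagata_localization (isNagata_opens p ⟨V, hV⟩)
    (hV.primeIdealOf ⟨x, hxV⟩).asIdeal.primeCompl _

omit [CharZero (FractionRing R)] in
/-- Normal modifications of a surface with rational singularities have rational singularities. -/
theorem isRationalSing_modif {X X' : Scheme.{u}} [IsIntegral X] [AlgebraicGeometry.IsNoetherian X]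
    [IsIntegral X'] (hdim : topologicalKrullDim X ≤ 2) (hn : Pi1.IsNormalScheme X)
    (hN : ∀ x : X, CAlg.IsNagata (X.presheaf.stalk x))
    (hrat : ∀ x : X, IsClosed ({x} : Set X) → Curv2.IsRationalSing (X.presheaf.stalk x))
    (ρ : X' ⟶ X) [IsProper ρ] (hn' : Pi1.IsNormalScheme X') (hbir : IsBir ρ)
    (x' : X') (hx' : IsClosed ({x'} : Set X')) : Curv2.IsRationalSing (X'.presheaf.stalk x') := by
  obtain ⟨V, hV, hiso⟩ := id hbir
  haveI := hiso
  haveI : IsLocallyNoetherian X' := LocallyOfFiniteType.isLocallyNoetherian ρ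
  obtain ⟨e, -⟩ := Groth.L05.PtSeq.ffMap_bijective ρ V hV
  have hle : ringKrullDim (X'.presheaf.stalk x') ≤ ringKrullDim (X.presheaf.stalk (ρ x')) :=
    Groth.L13.ModFibre.ringKrullDim_stalk_le ρ V
      ⟨genericPoint X', by rw [e]; exact Groth.L05.MinDesing.genericPoint_mem hV⟩ x'
  have hle2 : ringKrullDim (X.presheaf.stalk (ρ x')) ≤ 2 :=
    (Groth.L15.CohFlat.ringKrullDim_stalk_le (ρ x')).trans hdim
  haveI := (hn' x').1
  haveI := (hn' x').2
  by_cases h1 : ringKrullDim (X'.presheaf.stalk x') ≤ 1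
  · haveI : IsRegularLocalRing (X'.presheaf.stalk x') := Groth.L06.NormalAscent.regular_of_normal_dim_le_one h1
    exact Groth.L05.ResNorm.isRationalSing_regular_le _ (h1.trans one_le_two)
  · have h2 : ringKrullDim (X'.presheaf.stalk x') = 2 := by
      refine le_antisymm (hle.trans hle2) ?_
      generalize ringKrullDim (X'.presheaf.stalk x') = d at h1 ⊢
      rw [not_le] at h1
      cases d with
      | bot => exact absurd h1 not_lt_bot
      | coe n =>
        have h : (1 : ℕ∞) < n := by exact_mod_cast h1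
        have h2 : (2 : ℕ∞) ≤ n := by
          simpa [one_add_one_eq_two] using Order.add_one_le_of_lt h
        show ((2 : ℕ∞) : WithBot ℕ∞) ≤ (n : WithBot ℕ∞)
        exact WithBot.coe_le_coe.2 h2
    have h2x : ringKrullDim (X.presheaf.stalk (ρ x')) = 2 := le_antisymm hle2 (h2 ▸ hle)
    haveI := (hn (ρ x')).1
    haveI := (hn (ρ x')).2
    obtain ⟨hWi, hWp, hWn, hWb, -⟩ := Groth.L05.RatSpread.localModification ρ hn' hbir (ρ x')
    let x := ρ x'
    let A := X.presheaf.stalk x
    let W : Scheme.{u} := pullback ρ (X.fromSpecStalk x)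
    letI : W.Over (Spec (CommRingCat.of A)) := ⟨pullback.snd ρ (X.fromSpecStalk x)⟩
    haveI : IsIntegral W := hWi
    haveI : IsProper (W ↘ Spec (CommRingCat.of A)) := hWp
    let g : W ⟶ X' := pullback.fst ρ (X.fromSpecStalk x)
    have hsq : IsPullback g (pullback.snd ρ (X.fromSpecStalk x)) ρ (X.fromSpecStalk x) :=
      IsPullback.of_hasPullback _ _
    haveI : IsPreimmersion g := MorphismProperty.of_isPullback hsq.flip inferInstance
    haveI : Flat g := MorphismProperty.of_isPullback hsq.flip (Groth.L05.Point.flat_fromSpecStalk x)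
    obtain ⟨w, hw, -⟩ := Scheme.exists_preimage_of_isPullback hsq x' (IsLocalRing.closedPoint A)
      Scheme.fromSpecStalk_closedPoint.symm
    haveI := Groth.L11.REqHom.isIso_stalkMap_of_flat_preimmersion g w
    let ε : X'.presheaf.stalk x' ≃+* W.presheaf.stalk w :=
      (X'.presheaf.stalkCongr (Inseparable.of_eq hw.symm) ≪≫ asIso (g.stalkMap w)).commRingCatIsoToRingEquiv
    refine Groth.L05.RatSpread.isRationalSing_of_equiv ε.symm ?_
    exact Groth.L05.RatSpread.isRationalSing_stalk (hN x) h2x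
      (hrat x (by rw [← Set.image_singleton]; exact ρ.isClosedMap _ hx')) hWn hWb w
      ((ringKrullDim_eq_of_ringEquiv ε).symm.trans h2)

section Torsion

variable {X : Scheme.{u}}

theorem hmap_smulMod' (M : X.Modules) (r : Coh.Γtop X) (n : ℕ) (x : Coh.HH X M n) :
    hmap (smulMod M r) n x = r • x := by
  rw [Groth.L16.CohLinear.smul_apply, Groth.L16.CohLinear.hmap_apply]
  rfl

omit [CharZero (FractionRing R)] in
/-- Functions on the closed fibre extend iff the first cohomology has no torsion. -/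
theorem surjective_restrict_iff (p : X ⟶ Spec (CommRingCat.of R)) [IsProper p] [Flat p] [IsIntegral X]
    [IsLocallyNoetherian X] {ϖ : R} (hϖ : Irreducible ϖ) :
    Function.Surjective (hmap (ClSub.toSubscheme (Models.specialFibreIdeal R (Over.mk p))) 0) ↔
      ∀ v : Coh.HH X (Coh.structureModule X) 1, (Coh.toGlobal p ϖ) • v = 0 → v = 0 := by
  haveI : IsProper (Over.mk p).hom := ‹IsProper p›
  haveI : Flat (Over.mk p).hom := ‹Flat p›
  haveI : IsIntegral (Over.mk p).left := ‹IsIntegral X›
  haveI : IsLocallyNoetherian (Over.mk p).left := ‹IsLocallyNoetherian X›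
  let b : Γ(X, ⊤) := Coh.toGlobal p ϖ
  have hb : b ≠ 0 := Groth.L05.CohFlat.toGlobal_ne_zero (X := Over.mk p) hϖ.ne_zero
  have hI : ∀ U : X.affineOpens, (Models.specialFibreIdeal R (Over.mk p)).ideal U =
      Ideal.span {Groth.L18.Frame.ro (le_top : U.1 ≤ ⊤) b} := fun U => by
    have h := Groth.L05.CohFlat.ideal_pow_specialFibreIdeal (X := Over.mk p) hϖ 1 U
    rw [pow_one (Models.specialFibreIdeal R (Over.mk p)), pow_one ϖ] at h
    exact h
  have hS := Groth.L05.CohFlat.shortExact_seq _ hb hI
  have hf : ∀ v, hmap (smulMod (Coh.structureModule X) b) 1 v = (Coh.toGlobal p ϖ) • v := fun v =>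
    hmap_smulMod' _ _ _ _
  constructor
  · intro hs v hv
    obtain ⟨y, rfl⟩ := (exact_delta_hmap hS 0 v).1 ((hf v).trans hv)
    exact (exact_hmap_delta hS 0 y).2 (hs y)
  · intro ht y
    exact (exact_hmap_delta hS 0 y).1 (ht _ ((hf _).symm.trans ((exact_delta_hmap hS 0 _).2 ⟨y, rfl⟩)))

end Torsion

/-- A finite birational morphism is an isomorphism over normal points. -/
theorem isIso_restrict_of_finite {X Y : Scheme.{u}} [IsIntegral X] [IsIntegral Y] [IsLocallyNoetherian Y]
    (f : X ⟶ Y) [IsFinite f] (hbir : IsBir f) (U : Y.Opens)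
    (hU : ∀ y ∈ U, IsIntegrallyClosed (Y.presheaf.stalk y)) : IsIso (f ∣_ U) := by
  obtain ⟨V, hV, hiso⟩ := hbir
  by_cases hne : (U : Set Y).Nonempty
  · haveI := hiso
    obtain ⟨e, -⟩ := Groth.L05.PtSeq.ffMap_bijective f V hV
    haveI : Nonempty U := ⟨⟨_, hne.some_mem⟩⟩
    haveI : Nonempty (f ⁻¹ᵁ U : X.Opens) := ⟨⟨genericPoint X, by
      show f (genericPoint X) ∈ U
      rw [e]; exact Groth.L05.MinDesing.genericPoint_mem hne⟩⟩
    haveI : IsIntegral (U : Scheme.{u}) := isIntegral_of_isOpenImmersion U.ι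
    haveI : IsIntegral (f ⁻¹ᵁ U : X.Opens).toScheme := isIntegral_of_isOpenImmersion (f ⁻¹ᵁ U).ι
    let g := f ∣_ U
    haveI : IsFinite g := IsZariskiLocalAtTarget.restrict ‹IsFinite f› U
    have hbir' : IsBir g := by
      refine ⟨U.ι ⁻¹ᵁ V, ⟨⟨genericPoint Y, Groth.L05.MinDesing.genericPoint_mem hne⟩,
        Groth.L05.MinDesing.genericPoint_mem hV⟩, ?_⟩
      exact Groth.L13.Nagata.isIso_restrict_of_isPullback (isPullback_morphismRestrict f U).flip V _ fun _ h => h
    obtain ⟨V', hV', hiso'⟩ := hbir'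
    haveI := hiso'
    obtain ⟨e', hff⟩ := Groth.L05.PtSeq.ffMap_bijective g V' hV'
    haveI : ∀ W, IsIso (g.app W) := Groth.L05.PtSeq.isIso_app_of_normal_or_iso g e' hff fun y => Or.inl (by
      haveI := hU y.1 y.2
      exact IsIntegrallyClosed.of_equiv (U.stalkIso y).commRingCatIsoToRingEquiv.symm)
    refine (IsZariskiLocalAtTarget.iff_of_iSup_eq_top (P := MorphismProperty.isomorphisms Scheme.{u})
      (fun W : (U : Scheme.{u}).affineOpens => W.1) (iSup_affineOpens_eq_top _)).2 fun W => ?_
    haveI : IsAffine W.1.toScheme := W.2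
    haveI : IsAffine (g ⁻¹ᵁ W.1).toScheme := W.2.preimage g
    refine (HasAffineProperty.iff_of_isAffine (P := MorphismProperty.isomorphisms Scheme.{u})).2
      ⟨inferInstance, ?_⟩
    rw [Scheme.Hom.appTop, morphismRestrict_app]
    infer_instance
  · have hU0 : U = ⊥ := by
      refine Opens.ext ?_
      exact Set.not_nonempty_iff_eq_empty.1 hne
    haveI : IsEmpty U := ⟨fun y => hne ⟨y.1, y.2⟩⟩
    haveI : IsEmpty (f ⁻¹ᵁ U : X.Opens) := ⟨fun x => hne ⟨f x.1, x.2⟩⟩
    infer_instance

end Groth.L05.Adm
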