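import Groth.Agent.L05.Admissible.Graph
import Groth.Agent.L05.RatPow.Spread
import Groth.Agent.L05.CodimFlat.Finite
import Groth.Agent.L05.PtSeq.Curves
import Groth.Agent.L20.BlowFlat.FinLocFree
import Groth.Agent.L13.Nagata.StrictIso
import Groth.Agent.L03.SurfAdj.Tools
import Groth.Agent.L22.CurveQuot
import Groth.Agent.L08.Cube.SmoothStalk
import Mathlib.AlgebraicGeometry.Morphisms.Flat

/-!
# Finite morphisms of normal models after modifications
-/

set_option autoImplicit false
set_option linter.style.haveILetI false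
set_option maxHeartbeats 2000000
set_option backward.isDefEq.respectTransparency false
set_option backward.isDefEq.respectTransparency.types false

universe u

open CategoryTheory CategoryTheory.Limits AlgebraicGeometry TopologicalSpace Opposite
open Groth.L05.MinDesing (IsBir)
open Groth.L05.MinModel (gen range_model isOpenImmersion_model)

noncomputable section

namespace Groth.L05.Adm

/-- A finite morphism from an integral scheme of positive dimension to an integral curve is surjective. -/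
theorem surjective_of_finite {C D : Scheme.{u}} [IsIntegral C] [IsIntegral D] (f : C ⟶ D) [IsFinite f]
    (hC : topologicalKrullDim C = 1) (hD : topologicalKrullDim D ≤ 1) : Surjective f := by
  have hgen : f (genericPoint C) = genericPoint D := by
    by_contra hne
    have hcl := Groth.L05.PtSeq.isClosed_of_ne_generic hD hne
    have hall : ∀ c : C, f c = f (genericPoint C) := fun c =>
      ((genericPoint_specializes c).map f.continuous).mem_closed hcl rfl
    haveI := (f.isDiscrete_preimage_singleton (f (genericPoint C))).to_subtype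
    have hsub : ∀ c : C, c = genericPoint C := fun c => by
      have h1 : (⟨genericPoint C, rfl⟩ : f ⁻¹' {f (genericPoint C)}) ⤳ ⟨c, hall c⟩ :=
        (subtype_specializes_iff _ _).2 (genericPoint_specializes c)
      exact (congrArg Subtype.val (specializes_iff_eq.1 h1)).symm
    haveI : Subsingleton C := ⟨fun a b => (hsub a).trans (hsub b).symm⟩
    have h0 : topologicalKrullDim C ≤ 0 := by
      rw [Groth.L13.ModFibre.topologicalKrullDim_eq_points]
      exact Order.krullDim_nonpos_iff_forall_isMax.2 fun a b _ => (Subsingleton.elim b a).le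
    rw [hC] at h0
    exact absurd h0 (not_le.2 zero_lt_one)
  refine ⟨fun d => ?_⟩
  have h : f (genericPoint C) ∈ Set.range f := ⟨_, rfl⟩
  rw [hgen] at h
  exact (genericPoint_specializes d).mem_closed f.isClosedMap.isClosed_range h

variable {R : Type u} [CommRing R] [IsDomain R] [IsDiscreteValuationRing R] [CharZero (FractionRing R)]

omit [CharZero (FractionRing R)] in
/-- A modification which is an isomorphism over the generic fibre gives a model. -/
theorem model_of_modif {C : Scheme.{u}} [IsIntegral C] {f : C ⟶ Spec (CommRingCat.of (FractionRing R))}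
    {X N : Scheme.{u}} (p : X ⟶ Spec (CommRingCat.of R)) [IsProper p] [Flat p] (g : C ⟶ X)
    (hg : IsPullback g f p (gen R)) [IsIntegral N] (ρ : N ⟶ X) [IsProper ρ]
    [IsOpenImmersion g] [IsIso (ρ ∣_ g.opensRange)] :
    ∃ g' : C ⟶ N, g' ≫ ρ = g ∧ IsPullback g' f (ρ ≫ p) (gen R) ∧ Flat (ρ ≫ p) := by
  let U : X.Opens := g.opensRange
  let e : C ≅ (U : Scheme.{u}) := g.isoOpensRange
  have he : e.hom ≫ U.ι = g := g.isoOpensRange_hom_ι
  let g' : C ⟶ N := e.hom ≫ inv (ρ ∣_ U) ≫ (ρ ⁻¹ᵁ U).ι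
  have hg'ρ : g' ≫ ρ = g := by
    show (e.hom ≫ inv (ρ ∣_ U) ≫ (ρ ⁻¹ᵁ U).ι) ≫ ρ = g
    rw [Category.assoc, Category.assoc, ← morphismRestrict_ι, IsIso.inv_hom_id_assoc, he]
  have hsq' : IsPullback g' (𝟙 C) ρ g := by
    have hA : IsPullback (inv (ρ ∣_ U) ≫ (ρ ⁻¹ᵁ U).ι) (𝟙 (U : Scheme.{u})) ρ U.ι := by
      refine (isPullback_morphismRestrict ρ U).flip.of_iso (asIso (ρ ∣_ U)) (Iso.refl _) (Iso.refl _) (Iso.refl _)
        ?_ ?_ ?_ ?_ <;> simp
    exact hA.of_iso e.symm (Iso.refl _) e.symm (Iso.refl _) (by simp [g']) (by simp) (by simp) (by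
      show U.ι ≫ 𝟙 X = e.inv ≫ g
      rw [Category.comp_id, ← he, Iso.inv_hom_id_assoc])
  have hpb : IsPullback g' f (ρ ≫ p) (gen R) := by
    simpa using hsq'.paste_vert hg
  refine ⟨g', hg'ρ, hpb, ?_⟩
  haveI := isOpenImmersion_model hpb
  haveI : IsDominant g' := ⟨by
    intro y
    refine closure_mono (Set.singleton_subset_iff.2 (Set.mem_range_self (genericPoint C))) ?_
    rw [genericPoint_eq_of_isOpenImmersion g']
    exact (genericPoint_specializes y).mem_closure⟩
  haveI : IsAffineHom g' := MorphismProperty.of_isPullback hpb.flip inferInstance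
  haveI := IsSchemeTheoreticallyDominant.of_isDominant g'
  haveI : Flat (g' ≫ ρ ≫ p) := by
    rw [← Category.assoc, hg'ρ]
    infer_instance
  exact Groth.L02.STD.flat_of_dominant R g' (ρ ≫ p)

/-- After modifications, a finite morphism of the generic fibres extends to a finite morphism of normal models. -/
theorem exists_finite_models {C D : Scheme.{u}} [IsIntegral C] [IsIntegral D]
    (hC : topologicalKrullDim C = 1) (hD : topologicalKrullDim D ≤ 1)
    {fC : C ⟶ Spec (CommRingCat.of (FractionRing R))} {fD : D ⟶ Spec (CommRingCat.of (FractionRing R))}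
    (hDn : Pi1.IsNormalScheme D)
    (fK : C ⟶ D) [IsFinite fK] (hfK : fK ≫ fD = fC)
    {X Y : Scheme.{u}} (p : X ⟶ Spec (CommRingCat.of R)) (q : Y ⟶ Spec (CommRingCat.of R))
    [IsProper p] [Flat p] [IsProper q] [Flat q] [IsIntegral X] [IsIntegral Y]
    (hnX : Pi1.IsNormalScheme X) (hnY : Pi1.IsNormalScheme Y)
    (g : C ⟶ X) (h : D ⟶ Y) (hg : IsPullback g fC p (gen R)) (hh : IsPullback h fD q (gen R)) :
    ∃ (X' Y' : Scheme.{u}) (p' : X' ⟶ Spec (CommRingCat.of R)) (q' : Y' ⟶ Spec (CommRingCat.of R))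
      (g' : C ⟶ X') (h' : D ⟶ Y') (ρ : X' ⟶ X) (σ : Y' ⟶ Y) (f' : X' ⟶ Y'),
      (IsIntegral X' ∧ IsProper p' ∧ Flat p' ∧ IsPullback g' fC p' (gen R) ∧ Pi1.IsNormalScheme X' ∧
        IsProper ρ ∧ IsBir ρ) ∧
      (IsIntegral Y' ∧ IsProper q' ∧ Flat q' ∧ IsPullback h' fD q' (gen R) ∧ Pi1.IsNormalScheme Y' ∧
        IsProper σ ∧ IsBir σ) ∧
      ρ ≫ p = p' ∧ σ ≫ q = q' ∧ g' ≫ ρ = g ∧ h' ≫ σ = h ∧
      IsFinite f' ∧ f' ≫ q' = p' ∧ g' ≫ f' = fK ≫ h' := by
  haveI := surjective_of_finite fK hC hD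
  have hK : (fK ≫ h) ≫ q = fC ≫ gen R := by rw [Category.assoc, hh.w, ← Category.assoc, hfK]
  obtain ⟨X₁, p₁, g₁, ρ₁, φ, hX₁, hp₁, hfl₁, hg₁, hn₁, hρ₁, hbir₁, hφ, e₁, e₂, e₃, e₄, -⟩ :=
    exists_graph_model p hnX g hg q (fK ≫ h) hK
  haveI := hX₁; haveI := hp₁; haveI := hfl₁; haveI := hρ₁; haveI := hφ
  haveI := isOpenImmersion_model hh
  haveI := isOpenImmersion_model hg₁
  haveI : IsLocallyNoetherian Y := LocallyOfFiniteType.isLocallyNoetherian q
  haveI : CompactSpace Y := QuasiCompact.compactSpace_of_compactSpace q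
  haveI : AlgebraicGeometry.IsNoetherian Y := { }
  haveI : IsLocallyNoetherian D := LocallyOfFiniteType.isLocallyNoetherian h
  let U : Y.Opens := h.opensRange
  have hUne : (U : Set Y).Nonempty := ⟨h (genericPoint D), genericPoint D, rfl⟩
  haveI : IsAffineHom h := MorphismProperty.of_isPullback hh.flip inferInstance
  have hUc : IsCompact (U : Set Y) := TopologicalSpace.NoetherianSpace.isCompact _
  -- the flattening
  have hsqK : IsPullback g₁ fK φ h := by
    refine IsPullback.of_bot ?_ e₄ hh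
    rw [hfK, e₂]; exact hg₁
  have hflU : Mor2.IsFinLocFree (φ ∣_ U) := by
    let e : D ≅ (U : Scheme.{u}) := h.isoOpensRange
    have he : e.hom ≫ U.ι = h := h.isoOpensRange_hom_ι
    have hr : IsPullback (φ ⁻¹ᵁ U).ι (φ ∣_ U) φ U.ι := (isPullback_morphismRestrict φ U).flip
    let a : (φ ⁻¹ᵁ U : X₁.Opens).toScheme ⟶ C := hsqK.lift (φ ⁻¹ᵁ U).ι ((φ ∣_ U) ≫ e.inv) (by
      rw [Category.assoc, ← he, Iso.inv_hom_id_assoc]; exact hr.w)
    have hpb : IsPullback a (φ ∣_ U) fK e.inv := by
      refine IsPullback.of_right ?_ (hsqK.lift_snd _ _ _) hsqK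
      rw [hsqK.lift_fst, show e.inv ≫ h = U.ι by rw [← he, Iso.inv_hom_id_assoc]]
      exact hr
    have hfl : Flat fK := (Flat.iff_flat_stalkMap fK).2 fun c =>
      Groth.L05.CodimFlat.flat_stalkMap_of_dim_le_one fK hDn c
        ((Groth.L15.CohFlat.ringKrullDim_stalk_le (fK c)).trans hD)
    haveI := hfl
    haveI : LocallyOfFinitePresentation fK := inferInstance
    exact ⟨MorphismProperty.of_isPullback hpb inferInstance, MorphismProperty.of_isPullback hpb inferInstance,
      MorphismProperty.of_isPullback hpb inferInstance⟩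
  obtain ⟨𝓘, S', b, hb, hadm, hflat⟩ := Groth.L20.BlowFlat.exists_finLocFree φ U hUc hflU
  have hdisj : ∀ y ∈ U, y ∉ (𝓘.support : Set Y) := fun y hy hy' => Set.disjoint_left.1 hadm.2 hy' hy
  have hI : (𝓘.support.compl : Set Y).Nonempty := ⟨_, hdisj _ hUne.some_mem⟩
  haveI := Groth.Agent.L13.BlowTwo.irreducible_blowUp b hb hI
  have hisoI := Groth.L22.Ideals.isIso_restrict_compl hb
  haveI := hisoI
  haveI : IsReduced S' := by
    refine Groth.L05.RatSpread.isReduced_of_effCartier hb.1 fun y hy => ?_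
    have hyU : y ∈ b ⁻¹ᵁ 𝓘.support.compl := fun h' => hy (by
      rw [Scheme.IdealSheafData.support_comap]; exact h')
    haveI : _root_.IsReduced (Y.presheaf.stalk (b y)) := inferInstance
    haveI : IsIso (b.stalkMap y) := Groth.L05.PtSeq.isIso_stalkMap_of_restrict b 𝓘.support.compl hyU
    exact isReduced_of_injective (inv (b.stalkMap y)).hom (ConcreteCategory.bijective_of_isIso _).1
  haveI : IsIntegral S' := isIntegral_of_irreducibleSpace_of_isReduced S'
  haveI : IsProper b := Groth.L13.BU.isProper_blowUp hb fun V => by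
    haveI : IsNoetherianRing Γ(Y, V.1) := IsLocallyNoetherian.component_noetherian V
    exact IsNoetherian.noetherian _
  haveI : IsLocallyNoetherian S' := LocallyOfFiniteType.isLocallyNoetherian b
  haveI : CompactSpace S' := QuasiCompact.compactSpace_of_compactSpace b
  haveI := Groth.L22.Norm.isFinite_normalizationι S' (isNagata_opens (b ≫ q))
  obtain ⟨hNi, hNn, -, -⟩ := Groth.Agent.S2351.result S'
  haveI := hNi
  let Y' := Curv2.normalization S'
  let ν : Y' ⟶ S' := Curv2.normalizationι S'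
  let σ : Y' ⟶ Y := ν ≫ b
  haveI : IsProper σ := inferInstanceAs (IsProper (ν ≫ b))
  have hUle : U ≤ 𝓘.support.compl := fun y hy => hdisj y hy
  haveI : IsIso (b ∣_ U) := Groth.L05.MinDesing.isIso_restrict_le b hUle
  haveI : IsIso (ν ∣_ (b ⁻¹ᵁ U)) := by
    refine isIso_restrict_of_finite ν (Groth.L22.BM.exists_isIso_normalizationι S') _ fun w hw => ?_
    haveI : IsIso (b.stalkMap w) := Groth.L05.PtSeq.isIso_stalkMap_of_restrict b U hw
    haveI := (hnY (b w)).2
    exact IsIntegrallyClosed.of_equiv (asIso (b.stalkMap w)).commRingCatIsoToRingEquiv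
  haveI hσiso : IsIso (σ ∣_ U) := by
    rw [morphismRestrict_comp]
    infer_instance
  obtain ⟨h', hh'σ, hh', hflY'⟩ := model_of_modif q h hh σ
  haveI := hflY'
  have hK' : (fK ≫ h') ≫ σ ≫ q = fC ≫ gen R := by
    rw [Category.assoc, ← Category.assoc h', hh'σ, ← Category.assoc, hK]
  obtain ⟨X', p', g', ρ₂, f', hX', hp', hfl', hg', hn', hρ₂, hbir₂, hf', a₁, a₂, a₃, a₄, i, hi, hi₁, hi₂⟩ :=
    exists_graph_model p₁ hn₁ g₁ hg₁ (σ ≫ q) (fK ≫ h') hK'
  haveI := hX'; haveI := hp'; haveI := hfl'; haveI := hρ₂; haveI := hf'; haveI := hi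
  haveI := isOpenImmersion_model hg'
  haveI : IsDominant g' := ⟨by
    intro y
    refine closure_mono (Set.singleton_subset_iff.2 (Set.mem_range_self (genericPoint C))) ?_
    rw [genericPoint_eq_of_isOpenImmersion g']
    exact (genericPoint_specializes y).mem_closure⟩
  have hcomm : ρ₂ ≫ φ = f' ≫ σ := by
    refine ext_of_isDominant_of_isSeparated q ?_ g' ?_
    · rw [Category.assoc, Category.assoc, e₂, a₁, a₂]
    · rw [← Category.assoc, a₃, e₄, ← Category.assoc, a₄, Category.assoc, hh'σ]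
  let i' : X' ⟶ pullback φ σ := pullback.lift ρ₂ f' hcomm
  let m : pullback φ σ ⟶ pullback p₁ (σ ≫ q) :=
    pullback.map φ σ p₁ (σ ≫ q) (𝟙 _) (𝟙 _) q (by rw [Category.id_comp, e₂]) (by rw [Category.id_comp])
  haveI : IsFinite (i' ≫ m) := by
    have hm : i' ≫ m = i := by
      apply pullback.hom_ext <;> simp [i', m, hi₁, hi₂]
    rw [hm]; exact hi
  haveI : IsSeparated m := by
    haveI : IsSeparated (m ≫ pullback.fst p₁ (σ ≫ q)) := by
      rw [show m ≫ pullback.fst p₁ (σ ≫ q) = pullback.fst φ σ by simp [m]]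
      infer_instance
    exact IsSeparated.of_comp m (pullback.fst p₁ (σ ≫ q))
  haveI : IsFinite i' := IsFinite.of_comp i' m
  let m₂ : pullback φ σ ⟶ pullback φ b :=
    pullback.map φ σ φ b (𝟙 _) ν (𝟙 _) ((Category.comp_id _).trans (Category.id_comp _).symm)
      ((Category.comp_id _).trans rfl)
  haveI : IsFinite m₂ :=
    MorphismProperty.pullbackMap (P := @IsFinite) (inferInstanceAs (IsFinite (𝟙 X₁))) ‹IsFinite ν›
      (Category.id_comp φ).symm rfl
  let w : X' ⟶ pullback φ b := i' ≫ m₂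
  haveI : IsFinite w := inferInstanceAs (IsFinite (i' ≫ m₂))
  have hw₁ : w ≫ pullback.fst φ b = ρ₂ := by simp [w, i', m₂]
  have hw₂ : w ≫ pullback.snd φ b = f' ≫ ν := by simp [w, i', m₂]
  -- the strict transform
  haveI : IsLocallyNoetherian X₁ := LocallyOfFiniteType.isLocallyNoetherian p₁
  haveI : CompactSpace X₁ := QuasiCompact.compactSpace_of_compactSpace p₁
  haveI : IsLocallyNoetherian (pullback φ b) := LocallyOfFiniteType.isLocallyNoetherian (pullback.fst φ b)
  haveI : CompactSpace (pullback φ b : Scheme.{u}) := QuasiCompact.compactSpace_of_compactSpace (pullback.fst φ b)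
  haveI : AlgebraicGeometry.IsNoetherian (pullback φ b) := { }
  let E := (𝓘.comap φ).comap (pullback.fst φ b)
  have hEft : BlowUp.IsFiniteTypeIdeal E := fun V => by
    haveI : IsNoetherianRing Γ(pullback φ b, V.1) := IsLocallyNoetherian.component_noetherian V
    exact IsNoetherian.noetherian _
  let O : (pullback φ b).Opens := E.support.compl
  haveI : QuasiCompact O.ι := inferInstance
  let 𝒥 : (pullback φ b).IdealSheafData := O.ι.ker
  have h𝒥 : ∀ (W : (pullback φ b).affineOpens) (a : Γ(pullback φ b, W.1)), a ∈ 𝒥.ideal W ↔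
      BlowUp.KilledByPowerNear E (Coh.structureModule (pullback φ b)) W a := fun W a => by
    have hZ : ∀ x ∈ W.1, (x ∈ O.ι ''ᵁ O.ι ⁻¹ᵁ W.1 ↔ x ∉ E.support) := fun x hx => by
      rw [Scheme.Hom.image_preimage_eq_opensRange_inf, Scheme.Opens.opensRange_ι]
      exact ⟨fun h0 => h0.1, fun h0 => ⟨h0, hx⟩⟩
    rw [Scheme.Hom.ker_apply, RingHom.mem_ker, Scheme.Opens.ι_app]
    exact (Groth.L13.Nagata.killed_iff_restrict_eq_zero E hEft W _ (Set.image_preimage_subset _ _) hZ a).symm
  obtain ⟨hTfin, -, -⟩ := hflat _ (pullback.fst φ b) (pullback.snd φ b) (IsPullback.of_hasPullback φ b) 𝒥 h𝒥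
  haveI := hTfin
  have hwne : ((w ⁻¹ᵁ O : X'.Opens) : Set X').Nonempty := ⟨g' (genericPoint C), by
    show w (g' (genericPoint C)) ∉ (E.support : Set ↥(pullback φ b))
    simp only [E, Scheme.IdealSheafData.support_comap]
    intro hmem
    refine hdisj _ ?_ hmem
    show φ (pullback.fst φ b (w (g' (genericPoint C)))) ∈ U
    rw [← Scheme.Hom.comp_apply w, hw₁, ← Scheme.Hom.comp_apply g', a₃, ← Scheme.Hom.comp_apply g₁, e₄,
      Scheme.Hom.comp_apply]
    exact ⟨_, rfl⟩⟩
  have hle : 𝒥 ≤ w.ker := by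
    haveI : Nonempty (w ⁻¹ᵁ O : X'.Opens) := ⟨⟨_, hwne.some_mem⟩⟩
    haveI : IsDominant (w ⁻¹ᵁ O).ι := ⟨by
      intro y
      rw [Scheme.Opens.range_ι]
      exact closure_mono (Set.singleton_subset_iff.2 (Groth.L05.MinDesing.genericPoint_mem hwne))
        (genericPoint_specializes y).mem_closure⟩
    haveI : IsLocallyNoetherian X' := LocallyOfFiniteType.isLocallyNoetherian p'
    haveI : CompactSpace X' := QuasiCompact.compactSpace_of_compactSpace p'
    haveI : AlgebraicGeometry.IsNoetherian X' := { }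
    haveI := IsSchemeTheoreticallyDominant.of_isDominant (w ⁻¹ᵁ O).ι
    have h1 : ((w ⁻¹ᵁ O).ι ≫ w).ker = w.ker := by
      rw [Scheme.Hom.ker_comp, IsSchemeTheoreticallyDominant.ker_eq_bot, Scheme.IdealSheafData.map_bot]
    rw [← h1, ← morphismRestrict_ι]
    exact Scheme.Hom.le_ker_comp _ _
  let t : X' ⟶ 𝒥.subscheme :=
    IsClosedImmersion.lift 𝒥.subschemeι w (by rw [Scheme.IdealSheafData.ker_subschemeι]; exact hle)
  have ht : t ≫ 𝒥.subschemeι = w := IsClosedImmersion.lift_fac _ _ _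
  haveI : IsFinite (t ≫ 𝒥.subschemeι) := by rw [ht]; infer_instance
  haveI : IsFinite t := IsFinite.of_comp t 𝒥.subschemeι
  haveI : IsFinite (f' ≫ ν) := by
    rw [← hw₂, ← ht, Category.assoc]; infer_instance
  haveI : IsFinite f' := IsFinite.of_comp f' ν
  have hbirσ : IsBir σ := ⟨U, hUne, hσiso⟩
  refine ⟨X', Y', p', σ ≫ q, g', h', ρ₂ ≫ ρ₁, σ, f',
    ⟨hX', hp', hfl', hg', hn', inferInstance, Groth.L05.MinDesing.isBir_comp ρ₂ ρ₁ hbir₂ hbir₁⟩,
    ⟨hNi, inferInstance, hflY', hh', hNn, inferInstance, hbirσ⟩, ?_, rfl, ?_, hh'σ, inferInstance, a₂, a₄⟩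
  · rw [Category.assoc, e₁, a₁]
  · rw [reassoc_of% a₃, e₃]

end Groth.L05.Adm
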