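import Groth.Agent.L05.Admissible.Basic
import Groth.Agent.L05.PtSeq.NormDominate
import Groth.Agent.L13.ModFibre
import Groth.Agent.L02.Misc.STD

/-!
# The normalised graph of a map from the generic fibre of a model
-/

set_option autoImplicit false
set_option linter.style.haveILetI false
set_option maxHeartbeats 1000000
set_option backward.isDefEq.respectTransparency false
set_option backward.isDefEq.respectTransparency.types false

universe u

open CategoryTheory CategoryTheory.Limits AlgebraicGeometry TopologicalSpace Opposite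
open Groth.L05.MinDesing (IsBir)
open Groth.L05.MinModel (gen range_model isOpenImmersion_model)

noncomputable section

namespace Groth.L05.Adm

variable {R : Type u} [CommRing R] [IsDomain R] [IsDiscreteValuationRing R] [CharZero (FractionRing R)]

/-- Given a normal model and a map from its generic fibre to a proper scheme over the base, a normal model
dominating the first one maps to the scheme, compatibly. -/
theorem exists_graph_model {C : Scheme.{u}} [IsIntegral C] {f : C ⟶ Spec (CommRingCat.of (FractionRing R))}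
    {X : Scheme.{u}} (p : X ⟶ Spec (CommRingCat.of R)) [IsProper p] [Flat p] [IsIntegral X]
    (hn : Pi1.IsNormalScheme X) (g : C ⟶ X) (hg : IsPullback g f p (gen R))
    {Y : Scheme.{u}} (q : Y ⟶ Spec (CommRingCat.of R)) [IsProper q] (h : C ⟶ Y) (hh : h ≫ q = f ≫ gen R) :
    ∃ (X' : Scheme.{u}) (p' : X' ⟶ Spec (CommRingCat.of R)) (g' : C ⟶ X') (ρ : X' ⟶ X) (φ : X' ⟶ Y),
      IsIntegral X' ∧ IsProper p' ∧ Flat p' ∧ IsPullback g' f p' (gen R) ∧ Pi1.IsNormalScheme X' ∧
      IsProper ρ ∧ IsBir ρ ∧ IsProper φ ∧ ρ ≫ p = p' ∧ φ ≫ q = p' ∧ g' ≫ ρ = g ∧ g' ≫ φ = h ∧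
      ∃ i : X' ⟶ pullback p q, IsFinite i ∧ i ≫ pullback.fst p q = ρ ∧ i ≫ pullback.snd p q = φ := by
  haveI := isOpenImmersion_model hg
  let U : X.Opens := g.opensRange
  have hU : (U : Set X).Nonempty := ⟨g (genericPoint C), genericPoint C, rfl⟩
  let e : C ≅ (U : Scheme.{u}) := g.isoOpensRange
  have he : e.hom ≫ U.ι = g := g.isoOpensRange_hom_ι
  let φ₀ : (U : Scheme.{u}) ⟶ Y := e.inv ≫ h
  have hφ₀ : φ₀ ≫ q = U.ι ≫ p := by
    show (e.inv ≫ h) ≫ q = _
    rw [Category.assoc, hh, ← hg.w, ← he, Category.assoc, Iso.inv_hom_id_assoc]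
  obtain ⟨W, ι, hW, hι, hiso, s, hs₁, hs₂⟩ := Groth.L05.PtSeq.exists_graph_closed p q U hU φ₀ hφ₀
  haveI := hW; haveI := hι
  let π : W ⟶ X := ι ≫ pullback.fst p q
  let ψ : W ⟶ Y := ι ≫ pullback.snd p q
  have hsq : π ≫ p = ψ ≫ q := by
    show (ι ≫ pullback.fst p q) ≫ p = (ι ≫ pullback.snd p q) ≫ q
    rw [Category.assoc, Category.assoc, pullback.condition]
  haveI : IsProper π := inferInstanceAs (IsProper (ι ≫ pullback.fst p q))
  haveI : IsLocallyNoetherian X := LocallyOfFiniteType.isLocallyNoetherian p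
  haveI : CompactSpace X := QuasiCompact.compactSpace_of_compactSpace p
  haveI : IsLocallyNoetherian W := LocallyOfFiniteType.isLocallyNoetherian π
  haveI : CompactSpace W := QuasiCompact.compactSpace_of_compactSpace π
  haveI := Groth.L22.Norm.isFinite_normalizationι W (isNagata_opens (π ≫ p))
  obtain ⟨hNi, hNn, -, -⟩ := Groth.Agent.S2351.result W
  haveI := hNi
  let N := Curv2.normalization W
  let ν : N ⟶ W := Curv2.normalizationι W
  let ρ : N ⟶ X := ν ≫ π
  let φ : N ⟶ Y := ν ≫ ψ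
  haveI : IsProper ρ := inferInstanceAs (IsProper (ν ≫ π))
  haveI := hiso
  haveI : IsIso (ν ∣_ (π ⁻¹ᵁ U)) := by
    refine isIso_restrict_of_finite ν (Groth.L22.BM.exists_isIso_normalizationι W) _ fun w hw => ?_
    haveI : IsIso (π.stalkMap w) := Groth.L05.PtSeq.isIso_stalkMap_of_restrict π U hw
    haveI := (hn (π w)).2
    exact IsIntegrallyClosed.of_equiv (asIso (π.stalkMap w)).commRingCatIsoToRingEquiv
  have hρiso : IsIso (ρ ∣_ U) := by
    rw [morphismRestrict_comp]
    infer_instance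
  haveI := hρiso
  let g' : C ⟶ N := e.hom ≫ inv (ρ ∣_ U) ≫ (ρ ⁻¹ᵁ U).ι
  have hg'ρ : g' ≫ ρ = g := by
    show (e.hom ≫ inv (ρ ∣_ U) ≫ (ρ ⁻¹ᵁ U).ι) ≫ ρ = g
    rw [Category.assoc, Category.assoc, ← morphismRestrict_ι, IsIso.inv_hom_id_assoc, he]
  have hg'φ : g' ≫ φ = h := by
    have h1 : g' ≫ ν = e.hom ≫ s := by
      have hs : Set.range (e.hom ≫ s) ⊆ Set.range (π ⁻¹ᵁ U).ι := by
        rintro _ ⟨c, rfl⟩
        rw [Scheme.Opens.range_ι]
        show π (s (e.hom c)) ∈ U
        rw [← Scheme.Hom.comp_apply, hs₁]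
        exact (e.hom c).2
      have hg' : Set.range (g' ≫ ν) ⊆ Set.range (π ⁻¹ᵁ U).ι := by
        rintro _ ⟨c, rfl⟩
        rw [Scheme.Opens.range_ι]
        show π (ν (g' c)) ∈ U
        rw [← Scheme.Hom.comp_apply, ← Scheme.Hom.comp_apply,
          show g' ≫ ν ≫ π = g from hg'ρ]
        exact ⟨c, rfl⟩
      rw [← IsOpenImmersion.lift_fac _ _ hs, ← IsOpenImmersion.lift_fac _ _ hg']
      congr 1
      rw [← cancel_mono (π ∣_ U), ← cancel_mono U.ι]
      simp only [Category.assoc, morphismRestrict_ι]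
      rw [IsOpenImmersion.lift_fac_assoc, IsOpenImmersion.lift_fac_assoc]
      refine Eq.trans hg'ρ ?_
      show g = (e.hom ≫ s) ≫ ι ≫ pullback.fst p q
      rw [Category.assoc, hs₁, he]
    show g' ≫ ν ≫ ψ = h
    rw [reassoc_of% h1, hs₂]
    show e.hom ≫ e.inv ≫ h = h
    rw [Iso.hom_inv_id_assoc]
  have hsq' : IsPullback g' (𝟙 C) ρ g := by
    have hA : IsPullback (inv (ρ ∣_ U) ≫ (ρ ⁻¹ᵁ U).ι) (𝟙 (U : Scheme.{u})) ρ U.ι := by
      refine (isPullback_morphismRestrict ρ U).flip.of_iso (asIso (ρ ∣_ U)) (Iso.refl _) (Iso.refl _) (Iso.refl _)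
        ?_ ?_ ?_ ?_ <;> simp
    exact hA.of_iso e.symm (Iso.refl _) e.symm (Iso.refl _) (by simp [g']) (by simp) (by simp) (by
      show U.ι ≫ 𝟙 X = e.inv ≫ g
      rw [Category.comp_id, ← he, Iso.inv_hom_id_assoc])
  have hpb : IsPullback g' f (ρ ≫ p) (gen R) := by
    simpa using hsq'.paste_vert hg
  haveI : IsProper (ρ ≫ p) := inferInstance
  have hφq : φ ≫ q = ρ ≫ p := by
    show (ν ≫ ψ) ≫ q = (ν ≫ π) ≫ p
    exact (Category.assoc ν ψ q).trans ((congrArg (ν ≫ ·) hsq.symm).trans (Category.assoc ν π p).symm)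
  refine ⟨N, ρ ≫ p, g', ρ, φ, hNi, inferInstance, ?_, hpb, hNn, inferInstance, ⟨U, hU, hρiso⟩, ?_, rfl, hφq,
    hg'ρ, hg'φ, ν ≫ ι, inferInstanceAs (IsFinite (ν ≫ ι)), Category.assoc _ _ _, Category.assoc _ _ _⟩
  · haveI := isOpenImmersion_model hpb
    haveI : IsDominant g' := ⟨by
      intro y
      refine closure_mono (Set.singleton_subset_iff.2 (Set.mem_range_self (genericPoint C))) ?_
      rw [genericPoint_eq_of_isOpenImmersion g']
      exact (genericPoint_specializes y).mem_closure⟩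
    haveI : IsAffineHom g' := MorphismProperty.of_isPullback hpb.flip inferInstance
    haveI := IsSchemeTheoreticallyDominant.of_isDominant g'
    haveI : Flat (g' ≫ ρ ≫ p) := by
      rw [← Category.assoc, hg'ρ]
      infer_instance
    exact Groth.L02.STD.flat_of_dominant R g' (ρ ≫ p)
  · haveI : IsProper (φ ≫ q) := by rw [hφq]; infer_instance
    exact IsProper.of_comp φ q

end Groth.L05.Adm
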