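import Groth.Agent.L05.Admissible.Graph
import Groth.Agent.S15137

/-!
# Modifications of admissible models are admissible
-/

set_option autoImplicit false
set_option linter.style.haveILetI false
set_option maxHeartbeats 1000000
set_option backward.isDefEq.respectTransparency false
set_option backward.isDefEq.respectTransparency.types false

universe u

open CategoryTheory CategoryTheory.Limits AlgebraicGeometry TopologicalSpace Opposite
open Groth.L05.MinDesing (IsBir)
open Groth.L05.MinModel (gen)
open Groth.L16.CohLinear (hmap)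

noncomputable section

namespace Groth.L05.Adm

variable {R : Type u} [CommRing R] [IsDomain R] [IsDiscreteValuationRing R] [CharZero (FractionRing R)]

/-- A normal modification of an admissible model is admissible. -/
theorem admissible_modif {C : Scheme.{u}} {f : C ⟶ Spec (CommRingCat.of (FractionRing R))}
    [SmoothOfRelativeDimension 1 f] [IsProper f] [GeometricallyConnected f]
    {X X' : Scheme.{u}} {p : X ⟶ Spec (CommRingCat.of R)} {p' : X' ⟶ Spec (CommRingCat.of R)}
    [IsProper p] [Flat p] [IsProper p'] [Flat p'] [IsIntegral X'] (g : C ⟶ X)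
    (hg : IsPullback g f p (gen R)) (hn : Pi1.IsNormalScheme X)
    (hcf : Function.Surjective (Sheaf.H.map ((SheafOfModules.toSheaf X.ringCatSheaf).map
        (ClSub.toSubscheme (Models.specialFibreIdeal R (Over.mk p)))) 0))
    (hrat : ∀ x : X, IsClosed ({x} : Set X) → Curv2.IsRationalSing (X.presheaf.stalk x))
    (ρ : X' ⟶ X) [IsProper ρ] (hρ : ρ ≫ p = p') (hbir : IsBir ρ) (hn' : Pi1.IsNormalScheme X') :
    Function.Surjective (Sheaf.H.map ((SheafOfModules.toSheaf X'.ringCatSheaf).map
        (ClSub.toSubscheme (Models.specialFibreIdeal R (Over.mk p')))) 0) ∧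
      ∀ x : X', IsClosed ({x} : Set X') → Curv2.IsRationalSing (X'.presheaf.stalk x) := by
  haveI : Smooth f := SmoothOfRelativeDimension.smooth 1 f
  haveI : IsIntegral C := Groth.L22.CurveQuot.isIntegral_of_smooth f
  have hC : topologicalKrullDim C = 1 := Groth.L03.SurfAdj.dim_of_relDim f 1
  letI : X.Over (Spec (CommRingCat.of R)) := ⟨p⟩
  letI : X'.Over (Spec (CommRingCat.of R)) := ⟨p'⟩
  haveI : IsProper (X ↘ Spec (CommRingCat.of R)) := ‹IsProper p›
  haveI : Flat (Over.mk p).hom := ‹Flat p›
  haveI : IsIntegral X :=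
    Groth.L05.RatR1.isIntegral_of_normal_model (X := Over.mk p) hn (f := f) (g := g) hg
  haveI : IsLocallyNoetherian X := LocallyOfFiniteType.isLocallyNoetherian p
  haveI : IsLocallyNoetherian X' := LocallyOfFiniteType.isLocallyNoetherian p'
  haveI : CompactSpace X := QuasiCompact.compactSpace_of_compactSpace p
  haveI : AlgebraicGeometry.IsNoetherian X := { }
  have hdim := Groth.L05.Models.model_dim_le_two hC hg
  refine ⟨?_, fun x hx => isRationalSing_modif hdim hn (isNagata_stalk p) hrat ρ hn' hbir x hx⟩
  have hmodel : Models.IsModel R X (X ↘ Spec (CommRingCat.of R)) C f :=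
    ⟨‹Flat p›, inferInstanceAs (LocallyOfFiniteType p), inferInstanceAs (QuasiCompact p), g, hg⟩
  obtain ⟨-, -, ⟨e⟩⟩ := Groth.Agent.S15137.result R X C f hmodel hn hrat X' ρ hρ hn' hbir
  obtain ⟨ϖ, hϖ⟩ := IsDiscreteValuationRing.exists_irreducible R
  refine (surjective_restrict_iff p' hϖ).2 fun v hv => ?_
  have h0 := (surjective_restrict_iff p hϖ).1 hcf (e.symm v) ?_
  · rw [← e.apply_symm_apply v, h0, map_zero]
  · show ϖ • e.symm v = 0
    rw [← map_smul, show ϖ • v = 0 from hv, map_zero]

end Groth.L05.Adm
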